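import Mathlib

/-!
Every even permutation `p` of degree at least five is `x * y⁻¹` with `x`, `y` of one even cycle type which
contains at least two transpositions.
-/

set_option autoImplicit false

namespace CfsgLib.SpecAlt

open Equiv Equiv.Perm Multiset

variable {α : Type*} [Fintype α] [DecidableEq α]

/-- `p * β` has type `T'` for some `β` of type `T` moving only points moved by `p`. -/
def Dec (p : Perm α) (T T' : Multiset ℕ) : Prop :=
  ∃ β : Perm α, β.support ⊆ p.support ∧ β.cycleType = T ∧ (p * β).cycleType = T'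

theorem Dec.mul {p p' : Perm α} {T T' U U' : Multiset ℕ} (h : Dec p T U) (h' : Dec p' T' U')
    (hd : Perm.Disjoint p p') : Dec (p * p') (T + T') (U + U') := by
  obtain ⟨β, hs, ht, hu⟩ := h
  obtain ⟨β', hs', ht', hu'⟩ := h'
  rw [disjoint_iff_disjoint_support] at hd
  have hdd : Perm.Disjoint β β' := disjoint_iff_disjoint_support.2 (hd.mono hs hs')
  have h1 : (p * β).support ⊆ p.support := (support_mul_le p β).trans (sup_le le_rfl hs)
  have h2 : (p' * β').support ⊆ p'.support := (support_mul_le p' β').trans (sup_le le_rfl hs')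
  have hdp : Perm.Disjoint (p * β) (p' * β') := disjoint_iff_disjoint_support.2 (hd.mono h1 h2)
  have hc : Commute p' β := (disjoint_iff_disjoint_support.2 (hd.symm.mono_right hs)).commute
  refine ⟨β * β', (support_mul_le _ _).trans (sup_le ?_ ?_), by rw [hdd.cycleType_mul, ht, ht'], ?_⟩
  · rw [(disjoint_iff_disjoint_support.2 hd).support_mul]
    exact hs.trans Finset.subset_union_left
  · rw [(disjoint_iff_disjoint_support.2 hd).support_mul]
    exact hs'.trans Finset.subset_union_right
  · rw [show p * p' * (β * β') = (p * β) * (p' * β') by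
      rw [mul_assoc, ← mul_assoc p', hc.eq]; simp only [mul_assoc], hdp.cycleType_mul, hu, hu']

theorem Dec.symm {p : Perm α} {T U : Multiset ℕ} (h : Dec p T U) : Dec p U T := by
  obtain ⟨β, hs, ht, hu⟩ := h
  refine ⟨(p * β)⁻¹, ?_, by rw [cycleType_inv, hu], ?_⟩
  · rw [support_inv]
    exact (support_mul_le p β).trans (sup_le le_rfl hs)
  · rw [mul_inv_rev, ← mul_assoc, cycleType_conj, cycleType_inv, ht]

theorem dec_one : Dec (1 : Perm α) 0 0 := ⟨1, by simp, by simp, by simp⟩

/-- `Dec` depends only on the cycle type, across finite types. -/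
theorem Dec.transport {γ : Type*} [Fintype γ] [DecidableEq γ] {m : Perm γ} {p : Perm α}
    {T U : Multiset ℕ} (h : Dec m T U) (hle : Fintype.card γ ≤ Fintype.card α)
    (hp : p.cycleType = m.cycleType) : Dec p T U := by
  classical
  obtain ⟨β, hs, ht, hu⟩ := h
  obtain ⟨ι⟩ := Function.Embedding.nonempty_of_card_le hle
  let f : γ ≃ Subtype (· ∈ Set.range ι) := Equiv.ofInjective ι ι.injective
  have hct : ∀ g : Perm γ, (g.extendDomain f).cycleType = g.cycleType := fun g => cycleType_extendDomain f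
  obtain ⟨σ, hσ⟩ := isConj_iff.1 (isConj_of_cycleType_eq (σ := m.extendDomain f) (τ := p)
    (by rw [hct, hp]))
  refine ⟨σ * β.extendDomain f * σ⁻¹, ?_, by rw [cycleType_conj, hct, ht], ?_⟩
  · rw [← hσ, support_conj, support_conj, support_extend_domain, support_extend_domain]
    exact Finset.map_subset_map.2 (Finset.map_subset_map.2 hs)
  · rw [← hσ, show σ * m.extendDomain f * σ⁻¹ * (σ * β.extendDomain f * σ⁻¹) =
      σ * (m.extendDomain f * β.extendDomain f) * σ⁻¹ by group, extendDomain_mul, cycleType_conj, hct, hu]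

theorem cycleType_of_mul_self {σ : Perm α} (h : σ * σ = 1) :
    σ.cycleType = replicate (σ.support.card / 2) 2 := by
  have hall : ∀ n ∈ σ.cycleType, n = 2 := fun n hn => by
    have h1 : n ∣ 2 := (dvd_of_mem_cycleType hn).trans (orderOf_dvd_of_pow_eq_one (by rw [sq, h]))
    have h2 := two_le_of_mem_cycleType hn
    have := Nat.le_of_dvd two_pos h1
    omega
  have h1 := Multiset.eq_replicate_card.2 hall
  have h2 : σ.support.card = Multiset.card σ.cycleType * 2 := by
    rw [← sum_cycleType]
    conv_lhs => rw [h1]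
    simp
  rw [h2, Nat.mul_div_cancel _ two_pos]
  exact h1

section reflections

theorem rev_mul_self (l : ℕ) : (Fin.revPerm : Perm (Fin l)) * Fin.revPerm = 1 :=
  Equiv.ext fun i => Fin.rev_rev i

theorem rot_rev_val {l : ℕ} (i : Fin (l + 1)) :
    (((finRotate (l + 1) * Fin.revPerm : Perm (Fin (l + 1))) i : Fin (l + 1)) : ℕ) = if (i : ℕ) = 0 then 0 else l + 1 - (i : ℕ) := by
  rw [Perm.mul_apply, Fin.revPerm_apply, coe_finRotate]
  have hi := i.isLt
  by_cases h : (i : ℕ) = 0
  · rw [if_pos h, if_pos]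
    apply Fin.ext
    rw [Fin.val_rev, Fin.val_last, h]
    omega
  · rw [if_neg h, if_neg, Fin.val_rev]
    · omega
    · intro h'
      have := congrArg Fin.val h'
      rw [Fin.val_rev, Fin.val_last] at this
      omega

theorem rot_rev_mul_self (l : ℕ) :
    (finRotate (l + 1) * Fin.revPerm : Perm (Fin (l + 1))) * (finRotate (l + 1) * Fin.revPerm) = 1 := by
  refine Equiv.ext fun i => Fin.ext ?_
  rw [Perm.mul_apply, rot_rev_val, rot_rev_val]
  have hi := i.isLt
  by_cases h : (i : ℕ) = 0
  · simp [h]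
  · rw [if_neg h, if_neg (by omega), Perm.one_apply]; omega

theorem cycleType_rev (l : ℕ) : (Fin.revPerm : Perm (Fin (l + 1))).cycleType = replicate ((l + 1) / 2) 2 := by
  rw [cycleType_of_mul_self (rev_mul_self (l + 1))]
  congr 1
  have hc : (Fin.revPerm : Perm (Fin (l + 1))).supportᶜ.card = (l + 1) % 2 := by
    rcases Nat.mod_two_eq_zero_or_one (l + 1) with h | h
    · rw [h, Finset.card_eq_zero, Finset.eq_empty_iff_forall_notMem]
      intro i hi
      rw [Finset.mem_compl, mem_support, not_not, Fin.revPerm_apply] at hi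
      have := congrArg Fin.val hi
      rw [Fin.val_rev] at this
      omega
    · rw [h, Finset.card_eq_one]
      refine ⟨⟨l / 2, by omega⟩, Finset.ext fun i => ?_⟩
      rw [Finset.mem_compl, mem_support, not_not, Fin.revPerm_apply, Finset.mem_singleton, Fin.ext_iff,
        Fin.ext_iff, Fin.val_rev]
      simp only
      omega
  rw [Finset.card_compl, Fintype.card_fin] at hc
  have := Finset.card_le_univ (Fin.revPerm : Perm (Fin (l + 1))).support
  rw [Fintype.card_fin] at this
  omega

theorem cycleType_rot_rev (l : ℕ) :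
    (finRotate (l + 1) * Fin.revPerm : Perm (Fin (l + 1))).cycleType = replicate (l / 2) 2 := by
  rw [cycleType_of_mul_self (rot_rev_mul_self l)]
  congr 1
  have hc : (finRotate (l + 1) * Fin.revPerm : Perm (Fin (l + 1))).supportᶜ.card = 2 - (l + 1) % 2 := by
    rcases Nat.mod_two_eq_zero_or_one (l + 1) with h | h
    · rw [h, Finset.card_eq_two]
      refine ⟨0, ⟨(l + 1) / 2, by omega⟩, fun h' => ?_, Finset.ext fun i => ?_⟩
      · have := congrArg Fin.val h'
        simp only [Fin.val_zero] at this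
        omega
      rw [Finset.mem_compl, mem_support, not_not, Fin.ext_iff, rot_rev_val, Finset.mem_insert,
        Finset.mem_singleton, Fin.ext_iff, Fin.ext_iff, Fin.val_zero]
      simp only
      split_ifs <;> omega
    · rw [h, Finset.card_eq_one]
      refine ⟨0, Finset.ext fun i => ?_⟩
      rw [Finset.mem_compl, mem_support, not_not, Fin.ext_iff, rot_rev_val, Finset.mem_singleton,
        Fin.ext_iff, Fin.val_zero]
      split_ifs <;> omega
  rw [Finset.card_compl, Fintype.card_fin] at hc
  have := Finset.card_le_univ (finRotate (l + 1) * Fin.revPerm : Perm (Fin (l + 1))).support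
  rw [Fintype.card_fin] at this
  omega

theorem cycle_dec {p : Perm α} (hp : p.IsCycle) :
    Dec p (replicate (p.support.card / 2) 2) (replicate ((p.support.card - 1) / 2) 2) := by
  set c := p.support.card with hc
  have h2 : 2 ≤ c := hp.two_le_card_support
  obtain ⟨l, hl⟩ : ∃ l, c = l + 1 := ⟨c - 1, by omega⟩
  refine Dec.transport (m := finRotate (l + 1)) ⟨Fin.revPerm, ?_, ?_, ?_⟩ ?_ ?_
  · rw [support_finRotate_of_le (by omega)]; exact Finset.subset_univ _
  · rw [cycleType_rev, hl]
  · rw [cycleType_rot_rev, hl, Nat.add_sub_cancel]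
  · rw [Fintype.card_fin, ← hl, hc]; exact Finset.card_le_univ _
  · rw [hp.cycleType, cycleType_finRotate_of_le (by omega), ← hc, hl]

end reflections

/-- `∑ (l - 1)` over the cycles -/
def ctWeight (p : Perm α) : ℕ := p.cycleType.sum - Multiset.card p.cycleType

theorem card_cycleType_le (p : Perm α) : Multiset.card p.cycleType ≤ p.cycleType.sum := by
  have h := Multiset.card_nsmul_le_sum (s := p.cycleType) (a := 1)
    fun x hx => (one_lt_of_mem_cycleType hx).le
  simpa using h

theorem ctWeight_mul {p p' : Perm α} (hd : Perm.Disjoint p p') :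
    ctWeight (p * p') = ctWeight p + ctWeight p' := by
  simp only [ctWeight, hd.cycleType_mul, Multiset.sum_add, Multiset.card_add]
  have := card_cycleType_le p
  have := card_cycleType_le p'
  omega

/-- Any balanced pair of involution types. -/
theorem balanced_dec (p : Perm α) : ∀ a b : ℕ, a + b = ctWeight p → a ≤ b + 1 → b ≤ a + 1 →
    Dec p (replicate a 2) (replicate b 2) := by
  induction p using cycle_induction_on with
  | base_one =>
    intro a b h _ _
    simp [ctWeight] at h
    obtain ⟨rfl, rfl⟩ := h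
    simpa using dec_one
  | base_cycles σ hσ =>
    intro a b h hab hba
    have hw : ctWeight σ = σ.support.card - 1 := by simp [ctWeight, hσ.cycleType]
    rw [hw] at h
    have h2 := hσ.two_le_card_support
    rcases le_total b a with hle | hle
    · have ha : σ.support.card / 2 = a := by omega
      have hb : (σ.support.card - 1) / 2 = b := by omega
      exact ha ▸ hb ▸ cycle_dec hσ
    · have ha : σ.support.card / 2 = b := by omega
      have hb : (σ.support.card - 1) / 2 = a := by omega
      exact ha ▸ hb ▸ (cycle_dec hσ).symm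
  | induction_disjoint σ τ hd _ hσ hτ =>
    intro a b h hab hba
    rw [ctWeight_mul hd] at h
    obtain ⟨a₁, b₁, a₂, b₂, e1, e2, f1, g1, f2, g2, ea, eb⟩ : ∃ a₁ b₁ a₂ b₂, a₁ + b₁ = ctWeight σ ∧
        a₂ + b₂ = ctWeight τ ∧ a₁ ≤ b₁ + 1 ∧ b₁ ≤ a₁ + 1 ∧ a₂ ≤ b₂ + 1 ∧ b₂ ≤ a₂ + 1 ∧ a₁ + a₂ = a ∧
        b₁ + b₂ = b := by
      rcases le_total b a with hle | hle
      · refine ⟨(ctWeight σ + 1) / 2, ctWeight σ / 2, a - (ctWeight σ + 1) / 2, b - ctWeight σ / 2, ?_⟩
        omega
      · refine ⟨ctWeight σ / 2, (ctWeight σ + 1) / 2, a - ctWeight σ / 2, b - (ctWeight σ + 1) / 2, ?_⟩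
        omega
    rw [← ea, ← eb, replicate_add, replicate_add]
    exact (hσ a₁ b₁ e1 f1 g1).mul (hτ a₂ b₂ e2 f2 g2) hd

/-! Special pieces -/

def perm5 : Perm (Fin 5) := ⟨![1, 3, 0, 2, 4], ![2, 0, 3, 1, 4], by decide, by decide⟩
def perm7 : Perm (Fin 7) := ⟨![1, 4, 6, 5, 0, 3, 2], ![4, 0, 6, 5, 1, 3, 2], by decide, by decide⟩
def perm8 : Perm (Fin 8) := ⟨![0, 2, 1, 5, 6, 7, 4, 3], ![0, 2, 1, 7, 6, 3, 4, 5], by decide, by decide⟩
def cyc62 : Perm (Fin 8) := ⟨![1, 2, 3, 4, 5, 0, 7, 6], ![5, 0, 1, 2, 3, 4, 7, 6], by decide, by decide⟩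
def cyc22 : Perm (Fin 4) := ⟨![1, 0, 3, 2], ![1, 0, 3, 2], by decide, by decide⟩
def perm22 : Perm (Fin 4) := ⟨![2, 3, 0, 1], ![2, 3, 0, 1], by decide, by decide⟩
def cyc44 : Perm (Fin 8) := ⟨![1, 2, 3, 0, 5, 6, 7, 4], ![3, 0, 1, 2, 7, 4, 5, 6], by decide, by decide⟩
def perm44 : Perm (Fin 8) := ⟨![4, 7, 6, 5, 0, 3, 2, 1], ![4, 7, 6, 5, 0, 3, 2, 1], by decide, by decide⟩

theorem dec_perm7 : Dec (finRotate 7) ({3, 2, 2} : Multiset ℕ) {3, 2, 2} :=
  ⟨perm7, by decide +kernel, by decide +kernel, by decide +kernel⟩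

theorem dec_cyc62 : Dec cyc62 ({3, 2, 2} : Multiset ℕ) {3, 2, 2} :=
  ⟨perm8, by decide +kernel, by decide +kernel, by decide +kernel⟩

theorem dec_cyc22 : Dec cyc22 (replicate 2 2) (replicate 2 2) :=
  ⟨perm22, by decide +kernel, by decide +kernel, by decide +kernel⟩

theorem dec_cyc44 : Dec cyc44 (replicate 4 2) (replicate 4 2) :=
  ⟨perm44, by decide +kernel, by decide +kernel, by decide +kernel⟩

theorem dec_three : Dec (finRotate 3) ({3} : Multiset ℕ) {3} :=
  ⟨finRotate 3, subset_rfl, by decide +kernel, by decide +kernel⟩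

theorem perm5_spec : perm5.cycleType = {4} ∧ (finRotate 5 * perm5).cycleType = {4} ∧ perm5 4 = 4 := by
  decide +kernel

/-- A `4`-cycle replaces two transpositions in a long cycle. -/
theorem long_cycle_dec {p : Perm α} (hp : p.IsCycle) (h5 : 5 ≤ p.support.card) :
    Dec p (4 ::ₘ replicate ((p.support.card - 4) / 2) 2)
      (4 ::ₘ replicate ((p.support.card - 5) / 2) 2) := by
  classical
  obtain ⟨m, hm⟩ : ∃ m, p.support.card = 5 + m := ⟨p.support.card - 5, by omega⟩
  let ι₁ : Fin 5 ↪ Fin (5 + m) := Fin.castLEEmb (by omega)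
  let ι₂ : Fin (m + 1) ↪ Fin (5 + m) :=
    ⟨fun i => ⟨4 + i, by omega⟩, fun i j h => Fin.ext (by simpa using Fin.mk.inj h)⟩
  have hι₁ : ∀ i, (ι₁ i : ℕ) = i := fun _ => rfl
  have hι₂ : ∀ i, (ι₂ i : ℕ) = 4 + i := fun _ => rfl
  let Φ₁ := viaEmbeddingHom ι₁
  let Φ₂ := viaEmbeddingHom ι₂
  have o1 : ∀ (g : Perm (Fin 5)) (x : Fin (5 + m)), 5 ≤ (x : ℕ) → Φ₁ g x = x := fun g x hx => by
    refine viaEmbedding_apply_of_notMem g ι₁ x ?_
    rintro ⟨i, hi⟩
    have h := congrArg Fin.val hi
    have h' := i.isLt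
    change (i : ℕ) = x at h
    omega
  have o2 : ∀ (g : Perm (Fin (m + 1))) (x : Fin (5 + m)), (x : ℕ) < 4 → Φ₂ g x = x := fun g x hx => by
    refine viaEmbedding_apply_of_notMem g ι₂ x ?_
    rintro ⟨i, hi⟩
    have h := congrArg Fin.val hi
    change 4 + (i : ℕ) = x at h
    omega
  have f1 : ∀ (g : Perm (Fin 5)), g 4 = 4 → ∀ x : Fin (5 + m), 4 ≤ (x : ℕ) → Φ₁ g x = x := by
    intro g hg x hx
    by_cases h : 5 ≤ (x : ℕ)
    · exact o1 g x h
    · have hx4 : x = ι₁ 4 := Fin.ext (show (x : ℕ) = 4 by omega)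
      rw [hx4]
      exact (viaEmbedding_apply g ι₁ 4).trans (by rw [hg])
  have f2 : ∀ (g : Perm (Fin (m + 1))), g 0 = 0 → ∀ x : Fin (5 + m), (x : ℕ) < 5 → Φ₂ g x = x := by
    intro g hg x hx
    by_cases h : (x : ℕ) < 4
    · exact o2 g x h
    · have hx4 : x = ι₂ 0 := Fin.ext (show (x : ℕ) = 4 + 0 by omega)
      rw [hx4]
      exact (viaEmbedding_apply g ι₂ 0).trans (by rw [hg])
  have hfix : (finRotate (m + 1) * Fin.revPerm : Perm (Fin (m + 1))) 0 = 0 :=
    Fin.ext (by rw [rot_rev_val]; simp)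
  have hct₁ : ∀ g : Perm (Fin 5), (Φ₁ g).cycleType = g.cycleType := fun g => by
    simp only [Φ₁, viaEmbeddingHom_apply, Equiv.Perm.viaEmbedding]
    convert cycleType_extendDomain _
  have hct₂ : ∀ g : Perm (Fin (m + 1)), (Φ₂ g).cycleType = g.cycleType := fun g => by
    simp only [Φ₂, viaEmbeddingHom_apply, Equiv.Perm.viaEmbedding]
    convert cycleType_extendDomain _
  have hrot : finRotate (5 + m) = Φ₁ (finRotate 5) * Φ₂ (finRotate (m + 1)) := by
    refine Equiv.ext fun x => ?_
    rw [Perm.mul_apply]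
    have hx := x.isLt
    by_cases h : (x : ℕ) < 4
    · rw [o2 _ x h]
      obtain ⟨y, rfl⟩ : ∃ y, x = ι₁ y := ⟨⟨x, by omega⟩, Fin.ext rfl⟩
      refine Eq.trans ?_ (viaEmbedding_apply _ ι₁ y).symm
      apply Fin.ext
      have hy : (y : ℕ) < 4 := h
      change ((finRotate (5 + m) (ι₁ y) : Fin (5 + m)) : ℕ) = ((finRotate 5 y : Fin 5) : ℕ)
      rw [finRotate_apply, finRotate_apply, Fin.val_add, Fin.val_add]
      simp only [hι₁, Fin.val_one', Fin.val_one]
      rw [Nat.mod_eq_of_lt (show 1 < 5 + m by omega), Nat.mod_eq_of_lt (show (y : ℕ) + 1 < 5 + m by omega)]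
      omega
    · obtain ⟨y, rfl⟩ : ∃ y, x = ι₂ y :=
        ⟨⟨x - 4, by omega⟩, Fin.ext (show (x : ℕ) = 4 + ((x : ℕ) - 4) by omega)⟩
      rw [show Φ₂ (finRotate (m + 1)) (ι₂ y) = ι₂ (finRotate (m + 1) y) from viaEmbedding_apply _ ι₂ y]
      have hy := y.isLt
      by_cases hl : (y : ℕ) = m
      · have h0 : finRotate (m + 1) y = 0 := by
          apply Fin.ext
          rw [coe_finRotate, if_pos (Fin.ext (show (y : ℕ) = m by omega))]
          rfl
        rw [h0, show ι₂ 0 = ι₁ 4 from Fin.ext rfl]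
        refine Eq.trans ?_ (viaEmbedding_apply _ ι₁ 4).symm
        apply Fin.ext
        change ((finRotate (5 + m) (ι₂ y) : Fin (5 + m)) : ℕ) = ((finRotate 5 4 : Fin 5) : ℕ)
        rw [finRotate_apply, Fin.val_add]
        simp [hι₂, hl, show 4 + m + 1 = 5 + m by omega]
      · have h1 : ((finRotate (m + 1) y : Fin (m + 1)) : ℕ) = (y : ℕ) + 1 := by
          rw [coe_finRotate, if_neg fun e => hl (by simpa using congrArg Fin.val e)]
        rw [o1 _ _ (show 5 ≤ 4 + ((finRotate (m + 1) y : Fin (m + 1)) : ℕ) by omega)]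
        apply Fin.ext
        change ((finRotate (5 + m) (ι₂ y) : Fin (5 + m)) : ℕ) = 4 + _
        rw [h1, finRotate_apply, Fin.val_add]
        simp only [hι₂, Fin.val_one']
        rw [Nat.mod_eq_of_lt (show 1 < 5 + m by omega), Nat.mod_eq_of_lt (by omega)]
        omega
  obtain ⟨s1, s2, s3⟩ := perm5_spec
  have hd1 : Perm.Disjoint (Φ₁ perm5) (Φ₂ Fin.revPerm) := fun x => by
    by_cases h : (x : ℕ) < 4
    · exact Or.inr (o2 _ x h)
    · exact Or.inl (f1 _ s3 x (by omega))
  have hd3 : Perm.Disjoint (Φ₂ (finRotate (m + 1))) (Φ₁ perm5) := fun x => by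
    by_cases h : (x : ℕ) < 4
    · exact Or.inl (o2 _ x h)
    · exact Or.inr (f1 _ s3 x (by omega))
  have hd2 : Perm.Disjoint (Φ₁ (finRotate 5 * perm5)) (Φ₂ (finRotate (m + 1) * Fin.revPerm)) := fun x => by
    by_cases h : (x : ℕ) < 5
    · exact Or.inr (f2 _ hfix x h)
    · exact Or.inl (o1 _ x (by omega))
  refine Dec.transport (m := finRotate (5 + m)) ⟨Φ₁ perm5 * Φ₂ Fin.revPerm, ?_, ?_, ?_⟩ ?_ ?_
  · rw [support_finRotate_of_le (by omega)]; exact Finset.subset_univ _
  · rw [hd1.cycleType_mul, hct₁, hct₂, s1, cycleType_rev, Multiset.singleton_add,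
      show (p.support.card - 4) / 2 = (m + 1) / 2 by omega]
  · rw [hrot, show Φ₁ (finRotate 5) * Φ₂ (finRotate (m + 1)) * (Φ₁ perm5 * Φ₂ Fin.revPerm) =
      Φ₁ (finRotate 5) * (Φ₂ (finRotate (m + 1)) * Φ₁ perm5) * Φ₂ Fin.revPerm by simp only [mul_assoc],
      hd3.commute.eq, show Φ₁ (finRotate 5) * (Φ₁ perm5 * Φ₂ (finRotate (m + 1))) * Φ₂ Fin.revPerm =
      (Φ₁ (finRotate 5) * Φ₁ perm5) * (Φ₂ (finRotate (m + 1)) * Φ₂ Fin.revPerm) by simp only [mul_assoc],
      ← map_mul, ← map_mul, hd2.cycleType_mul, hct₁, hct₂, s2, cycleType_rot_rev, Multiset.singleton_add,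
      show (p.support.card - 5) / 2 = m / 2 by omega]
  · rw [Fintype.card_fin, ← hm]; exact Finset.card_le_univ _
  · rw [hp.cycleType, cycleType_finRotate_of_le (by omega), hm]

theorem card_le_ctWeight (p : Perm α) : Multiset.card p.cycleType ≤ ctWeight p := by
  have h := Multiset.card_nsmul_le_sum (s := p.cycleType) (a := 2)
    fun x hx => two_le_of_mem_cycleType hx
  rw [smul_eq_mul] at h
  unfold ctWeight
  omega

theorem exists_factor {p : Perm α} {l : ℕ} (h : l ∈ p.cycleType) :
    ∃ c τ : Perm α, p = c * τ ∧ Perm.Disjoint c τ ∧ c.cycleType = {l} ∧ c.IsCycle ∧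
      c.support.card = l ∧ p.cycleType = l ::ₘ τ.cycleType ∧ ctWeight p = l - 1 + ctWeight τ := by
  obtain ⟨c, τ, rfl, hd, hc, rfl⟩ := mem_cycleType_iff.1 h
  refine ⟨c, τ, rfl, hd, hc.cycleType, hc, rfl, ?_, ?_⟩
  · rw [hd.cycleType_mul, hc.cycleType, Multiset.singleton_add]
  · rw [ctWeight_mul hd]
    simp [ctWeight, hc.cycleType]

/-- Two cycles of the same length `l`. -/
theorem exists_factor_pair {p : Perm α} {l : ℕ} (h : 2 ≤ p.cycleType.count l) :
    ∃ c τ : Perm α, p = c * τ ∧ Perm.Disjoint c τ ∧ c.cycleType = {l, l} ∧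
      ctWeight p = 2 * (l - 1) + ctWeight τ := by
  obtain ⟨c, τ, rfl, hd, hc, -, -, hpt, hw⟩ :=
    exists_factor (l := l) (Multiset.count_pos.1 (by omega : 0 < p.cycleType.count l))
  rw [hpt, Multiset.count_cons_self] at h
  obtain ⟨c', τ', rfl, hd', hc', -, -, -, hw'⟩ :=
    exists_factor (l := l) (Multiset.count_pos.1 (by omega : 0 < τ.cycleType.count l))
  have hsup : (c' * τ').support = c'.support ∪ τ'.support := hd'.support_mul
  have h1 : Perm.Disjoint c c' := disjoint_iff_disjoint_support.2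
    ((disjoint_iff_disjoint_support.1 hd).mono_right (hsup ▸ Finset.subset_union_left))
  have h2 : Perm.Disjoint c τ' := disjoint_iff_disjoint_support.2
    ((disjoint_iff_disjoint_support.1 hd).mono_right (hsup ▸ Finset.subset_union_right))
  refine ⟨c * c', τ', (mul_assoc _ _ _).symm, h2.mul_left hd', ?_, ?_⟩
  · rw [h1.cycleType_mul, hc, hc']
    rfl
  · rw [hw, hw']; omega

/-- The decomposition. -/
theorem exists_shape (p : Perm α) (hp : sign p = 1) (hn : 5 ≤ Fintype.card α) :
    ∃ β : Perm α, sign β = 1 ∧ 2 ≤ β.cycleType.count 2 ∧ (p * β).cycleType = β.cycleType := by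
  classical
  suffices h : ∃ (β : Perm α) (T : Multiset ℕ), β.cycleType = T ∧ (p * β).cycleType = T ∧
      2 ∣ T.sum + Multiset.card T ∧ 2 ≤ T.count 2 by
    obtain ⟨β, T, h1, h2, h3, h4⟩ := h
    refine ⟨β, ?_, by rw [h1]; exact h4, h2.trans h1.symm⟩
    rw [sign_of_cycleType, h1]
    exact (even_iff_two_dvd.2 h3).neg_one_pow
  by_cases h1 : p = 1
  · obtain ⟨g, hg⟩ : ∃ g : Perm α, g.cycleType = replicate 2 2 :=
      (exists_with_cycleType_iff α).2 ⟨by simp; omega, fun a ha => (eq_of_mem_replicate ha).ge⟩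
    exact ⟨g, _, hg, by rw [h1, one_mul, hg], by simp, by simp⟩
  -- the weight is even
  obtain ⟨k, hk⟩ : 2 ∣ ctWeight p := by
    rcases Nat.mod_two_eq_zero_or_one (p.cycleType.sum + Multiset.card p.cycleType) with h | h
    · unfold ctWeight
      have := card_cycleType_le p
      omega
    · rw [sign_of_cycleType, Odd.neg_one_pow (Nat.odd_iff.2 h)] at hp
      exact absurd hp (by decide)
  have hk0 : k ≠ 0 := fun h0 => by
    have h2 := card_le_ctWeight p
    rw [hk, h0] at h2
    exact h1 (cycleType_eq_zero.1 (Multiset.card_eq_zero.1 (by omega)))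
  have hof : ∀ T, Dec p T T → 2 ∣ T.sum + Multiset.card T → 2 ≤ T.count 2 →
      ∃ (β : Perm α) (T : Multiset ℕ), β.cycleType = T ∧ (p * β).cycleType = T ∧
        2 ∣ T.sum + Multiset.card T ∧ 2 ≤ T.count 2 := by
    rintro T ⟨β, -, ht, hu⟩ e1 e2
    exact ⟨β, T, ht, hu, e1, e2⟩
  obtain ⟨β, hs, ht, hu⟩ := balanced_dec p k k (by omega) (by omega) (by omega)
  rcases Nat.even_or_odd k with hev | hodd
  · refine ⟨β, _, ht, hu, ?_, ?_⟩
    · simp only [Multiset.sum_replicate, Multiset.card_replicate, smul_eq_mul]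
      obtain ⟨c, hc⟩ := hev
      omega
    · rw [Multiset.count_replicate_self]
      obtain ⟨c, hc⟩ := hev
      omega
  obtain ⟨c₀, hc₀⟩ := hodd
  have hrep : ∀ j, 2 ∣ j → 2 ∣ (replicate j 2).sum + Multiset.card (replicate j 2) := by
    intro j hj
    simp only [Multiset.sum_replicate, Multiset.card_replicate, smul_eq_mul]
    omega
  -- two fixed points
  by_cases hfix : 1 < p.supportᶜ.card
  · obtain ⟨x, hx, y, hy, hxy⟩ := Finset.one_lt_card.1 hfix
    rw [Finset.mem_compl] at hx hy
    have hsub : ∀ g : Perm α, g.support ⊆ p.support → Perm.Disjoint g (swap x y) := fun g hg => by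
      rw [disjoint_iff_disjoint_support, support_swap hxy]
      simp only [Finset.disjoint_insert_right, Finset.disjoint_singleton_right]
      exact ⟨fun h => hx (hg h), fun h => hy (hg h)⟩
    have hsw : (swap x y).cycleType = {2} := Equiv.Perm.isSwap_iff_cycleType.1 ⟨x, y, hxy, rfl⟩
    refine ⟨β * swap x y, replicate (k + 1) 2, ?_, ?_, hrep _ (by omega), ?_⟩
    · rw [(hsub β hs).cycleType_mul, ht, hsw, replicate_add, replicate_one]
    · rw [← mul_assoc, (hsub _ ((support_mul_le p β).trans (sup_le le_rfl hs))).cycleType_mul, hu, hsw,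
        replicate_add, replicate_one]
    · rw [Multiset.count_replicate_self]; omega
  have hsupp : Fintype.card α - 1 ≤ p.cycleType.sum := by
    rw [sum_cycleType]
    rw [Finset.card_compl] at hfix
    omega
  by_cases h3 : 3 ∈ p.cycleType
  · obtain ⟨c, τ, rfl, hd, hc, -, -, hpt, hw⟩ := exists_factor h3
    have hk1 : k ≠ 1 := fun e => by
      have h2 := card_le_ctWeight τ
      have : τ.cycleType = 0 := Multiset.card_eq_zero.1 (by omega)
      rw [hpt, this] at hsupp
      simp at hsupp
      omega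
    have hd3 : Dec c {3} {3} := dec_three.transport (by simp; omega)
      (by rw [hc, cycleType_finRotate_of_le (by norm_num)])
    refine hof _ (hd3.mul (balanced_dec τ (k - 1) (k - 1) (by omega) (by omega) (by omega)) hd)
      ?_ ?_
    · simp only [Multiset.singleton_add, Multiset.sum_cons, Multiset.card_cons, Multiset.sum_replicate,
        Multiset.card_replicate, smul_eq_mul]
      omega
    · rw [Multiset.singleton_add, Multiset.count_cons_of_ne (by norm_num), Multiset.count_replicate_self]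
      omega
  by_cases h22 : 2 ≤ p.cycleType.count 2
  · obtain ⟨c, τ, rfl, hd, hc, hw⟩ := exists_factor_pair h22
    have hdc : Dec c (replicate 2 2) (replicate 2 2) := dec_cyc22.transport (by simp; omega)
      (by rw [hc]; decide +kernel)
    refine hof (replicate (2 + (k - 1)) 2) ?_ (hrep _ (by omega))
      (by rw [Multiset.count_replicate_self]; omega)
    rw [replicate_add]
    exact hdc.mul (balanced_dec τ (k - 1) (k - 1) (by omega) (by omega) (by omega)) hd
  by_cases h44 : 2 ≤ p.cycleType.count 4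
  · obtain ⟨c, τ, rfl, hd, hc, hw⟩ := exists_factor_pair h44
    have h8 : 8 ≤ (c * τ).cycleType.sum := by
      rw [hd.cycleType_mul, hc, Multiset.sum_add]
      simp
    have hdc : Dec c (replicate 4 2) (replicate 4 2) := dec_cyc44.transport
      (by rw [Fintype.card_fin]; exact h8.trans (by rw [sum_cycleType]; exact Finset.card_le_univ _))
      (by rw [hc]; decide +kernel)
    refine hof (replicate (4 + (k - 3)) 2) ?_ (hrep _ (by omega))
      (by rw [Multiset.count_replicate_self]; omega)
    rw [replicate_add]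
    exact hdc.mul (balanced_dec τ (k - 3) (k - 3) (by omega) (by omega) (by omega)) hd
  by_cases hbig : ∃ l ∈ p.cycleType, 5 ≤ l
  · obtain ⟨l, hl, hl5⟩ := hbig
    obtain ⟨c, τ, rfl, hd, hct, hc, hcl, hpt, hw⟩ := exists_factor hl
    by_cases hk5 : 5 ≤ k
    · have hdc := long_cycle_dec hc (by omega)
      rw [hcl] at hdc
      refine hof (4 ::ₘ replicate (k - 2) 2) ?_ ?_ ?_
      · have := hdc.mul (balanced_dec τ (k - 2 - (l - 4) / 2) (k - 2 - (l - 5) / 2) (by omega) (by omega)
          (by omega)) hd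
        rwa [Multiset.cons_add, Multiset.cons_add, ← replicate_add, ← replicate_add,
          show (l - 4) / 2 + (k - 2 - (l - 4) / 2) = k - 2 by omega,
          show (l - 5) / 2 + (k - 2 - (l - 5) / 2) = k - 2 by omega] at this
      · simp only [Multiset.sum_cons, Multiset.card_cons, Multiset.sum_replicate, Multiset.card_replicate,
          smul_eq_mul]
        omega
      · rw [Multiset.count_cons_of_ne (by norm_num), Multiset.count_replicate_self]; omega
    · have hτ := card_le_ctWeight τ
      have hcases : (l = 7 ∧ τ.cycleType = 0) ∨ (l = 6 ∧ τ.cycleType = {2}) := by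
        have hwτ : τ.cycleType.sum - Multiset.card τ.cycleType = ctWeight τ := rfl
        have hmem : ∀ x ∈ τ.cycleType, x ≠ 3 := fun x hx e => h3 (by
          rw [hpt, ← e]; exact Multiset.mem_cons_of_mem hx)
        rw [hpt, Multiset.count_cons_of_ne (by omega)] at h22
        rcases (show l = 7 ∨ l = 6 ∨ l = 5 by omega) with h | h | h
        · exact Or.inl ⟨h, Multiset.card_eq_zero.1 (by omega)⟩
        · right
          obtain ⟨a, ha⟩ := Multiset.card_eq_one.1 (show Multiset.card τ.cycleType = 1 by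
            by_contra h'
            have h0 : τ.cycleType = 0 := Multiset.card_eq_zero.1 (by omega)
            rw [h0] at hwτ
            simp at hwτ
            omega)
          refine ⟨h, ?_⟩
          rw [ha] at hwτ ⊢
          simp at hwτ
          rw [show a = 2 by omega]
        · exfalso
          rcases (show Multiset.card τ.cycleType = 0 ∨ Multiset.card τ.cycleType = 1 ∨
              Multiset.card τ.cycleType = 2 by omega) with h' | h' | h'
          · rw [Multiset.card_eq_zero.1 h'] at hwτ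
            simp at hwτ
            omega
          · obtain ⟨a, ha⟩ := Multiset.card_eq_one.1 h'
            rw [ha] at hwτ
            simp at hwτ
            exact hmem a (by rw [ha]; simp) (by omega)
          · obtain ⟨a, b, hab⟩ := Multiset.card_eq_two.1 h'
            have ha := two_le_of_mem_cycleType (show a ∈ τ.cycleType by rw [hab]; simp)
            have hb := two_le_of_mem_cycleType (show b ∈ τ.cycleType by rw [hab]; simp)
            rw [hab] at hwτ h22
            simp at hwτ
            rw [show a = 2 by omega, show b = 2 by omega] at h22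
            simp at h22
      have hle : (c * τ).cycleType.sum ≤ Fintype.card α := by
        rw [sum_cycleType]; exact Finset.card_le_univ _
      have h7 : Dec (c * τ) ({3, 2, 2} : Multiset ℕ) {3, 2, 2} := by
        rcases hcases with ⟨rfl, h⟩ | ⟨rfl, h⟩ <;> rw [hpt, h] at hle
        · exact dec_perm7.transport (by simpa using hle)
            (by rw [hpt, h, cycleType_finRotate_of_le (by norm_num)]; rfl)
        · exact dec_cyc62.transport (by simpa using hle) (by rw [hpt, h]; decide +kernel)
      exact hof _ h7 (by decide) (by decide)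
  -- only transpositions and four-cycles are left
  exfalso
  push Not at hbig
  have hall : ∀ x ∈ p.cycleType, x = 2 ∨ x = 4 := fun x hx => by
    have := two_le_of_mem_cycleType hx
    have := hbig x hx
    have : x ≠ 3 := fun e => h3 (e ▸ hx)
    omega
  have hsplit := (Multiset.filter_add_not (fun x => x = 2) p.cycleType)
  have hne : p.cycleType.filter (fun x => ¬ x = 2) = p.cycleType.filter (fun x => x = 4) :=
    Multiset.filter_congr fun x hx => by
      rcases hall x hx with rfl | rfl <;> simp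
  rw [hne, Multiset.filter_eq', Multiset.filter_eq'] at hsplit
  have hw : ctWeight p = p.cycleType.count 2 + 3 * p.cycleType.count 4 := by
    unfold ctWeight
    conv_lhs => rw [← hsplit]
    simp only [Multiset.sum_add, Multiset.card_add, Multiset.sum_replicate, Multiset.card_replicate,
      smul_eq_mul]
    omega
  rcases (show p.cycleType.count 2 = 0 ∨ p.cycleType.count 2 = 1 by omega) with e2 | e2 <;>
    rcases (show p.cycleType.count 4 = 0 ∨ p.cycleType.count 4 = 1 by omega) with e4 | e4 <;> omega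

end CfsgLib.SpecAlt
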